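import Groth.Agent.Lie3Mod.WeightedBasis
import Mathlib.Data.Fin.VecNotation

/-!
# A weighted standard basis for the ideal `J` in the coordinates `(a, b+f, c, ..., i)`
-/

namespace Groth.Agent.Lie3Mod.Data

open Groth.Agent.Lie3Mod.WBasis

/-- Weights. -/
def w : Fin 9 → ℕ := ![0, 2, 6, 3, 4, 4, 4, 7, 6]

/-- Leading exponents. -/
def lead : Fin 5 → Fin 9 → ℕ := ![![0,0,0,1,0,0,0,0,1],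
  ![0,0,0,0,0,1,0,1,0],
  ![0,0,1,0,0,0,0,1,0],
  ![0,0,1,0,1,0,1,0,0],
  ![0,0,1,0,1,0,0,0,1]]

/-- Tails. -/
def tail : Fin 5 → List (ℤ × (Fin 9 → ℕ)) := ![[((-1), ![0,1,0,0,0,0,1,0,0]), (1, ![1,0,0,0,0,0,0,1,0])],
  [(1, ![0,0,0,1,0,1,0,0,0]), ((-1), ![0,0,0,0,1,0,0,0,1]), ((-1), ![0,1,0,1,0,0,0,0,0]), (1, ![1,0,0,0,1,0,0,0,0])],
  [(1, ![0,0,1,1,0,0,0,0,0]), (1, ![0,0,0,0,0,1,0,0,1]), ((-1), ![0,1,0,0,0,0,0,0,1]), ((-1), ![1,0,0,0,0,1,0,0,0])],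
  [(1, ![0,0,1,2,0,0,0,0,0]), (1, ![0,0,0,0,0,2,1,0,0]), ((-1), ![0,1,0,0,0,1,1,0,0]), ((-2), ![1,0,0,1,0,1,0,0,0]), (1, ![1,1,0,1,0,0,0,0,0]), ((-1), ![2,0,0,0,1,0,0,0,0])],
  [(1, ![0,0,0,0,0,2,0,0,1]), (1, ![0,1,1,1,0,0,0,0,0]), ((-1), ![0,1,0,0,0,1,0,0,1]), ((-1), ![1,0,1,0,1,0,0,0,0]), ((-1), ![1,0,0,0,0,2,0,0,0])]]

/-- Certificates. -/
def cert : List ((Fin 5 × Fin 5) × List (ℤ × (Fin 9 → ℕ) × Fin 5)) := [((0, 1), [((-1), ![0,0,0,1,0,1,0,0,0], 0),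
    (1, ![0,0,0,0,1,0,0,0,1], 0),
    (1, ![0,1,0,1,0,0,0,0,0], 0),
    ((-1), ![1,0,0,0,1,0,0,0,0], 0),
    ((-1), ![0,1,0,0,0,0,1,0,0], 1),
    (1, ![1,0,0,0,0,0,0,1,0], 1)]),
  ((0, 2), [((-1), ![0,0,1,1,0,0,0,0,0], 0),
    ((-1), ![0,0,0,0,0,1,0,0,1], 0),
    (1, ![0,1,0,0,0,0,0,0,1], 0),
    (1, ![1,0,0,0,0,1,0,0,0], 0),
    ((-1), ![0,1,0,0,0,0,1,0,0], 2),
    (1, ![1,0,0,0,0,0,0,1,0], 2)]),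
  ((0, 3), [((-1), ![0,0,1,2,0,0,0,0,0], 0),
    ((-1), ![0,0,0,0,0,2,1,0,0], 0),
    (1, ![0,1,0,0,0,1,1,0,0], 0),
    (1, ![1,0,0,1,0,1,0,0,0], 0),
    (1, ![1,0,0,0,0,1,1,0,0], 1),
    ((-1), ![1,1,0,0,0,0,1,0,0], 1),
    ((-1), ![2,0,0,1,0,0,0,0,0], 1),
    (1, ![1,0,0,0,1,0,1,0,0], 2),
    (1, ![1,0,0,2,0,0,0,0,0], 2),
    ((-1), ![0,1,0,0,0,0,1,0,0], 3),
    ((-1), ![1,0,0,1,0,0,0,0,0], 3)]),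
  ((0, 4), [((-1), ![0,0,0,0,0,2,0,0,0], 0),
    (1, ![0,1,0,0,0,1,0,0,0], 0),
    (1, ![1,0,0,0,0,1,0,0,0], 1),
    ((-1), ![1,1,0,0,0,0,0,0,0], 1),
    (1, ![1,0,0,0,1,0,0,0,0], 2),
    ((-1), ![0,1,0,0,0,0,0,0,0], 3)]),
  ((1, 2), [((-1), ![0,0,0,0,0,0,0,0,0], 4)]),
  ((1, 3), [((-1), ![0,0,1,2,0,0,0,0,0], 1),
    ((-1), ![0,0,0,0,0,2,1,0,0], 1),
    (1, ![0,1,0,0,0,1,1,0,0], 1),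
    (2, ![1,0,0,1,0,1,0,0,0], 1),
    ((-1), ![1,1,0,1,0,0,0,0,0], 1),
    (1, ![2,0,0,0,1,0,0,0,0], 1),
    (1, ![0,0,0,1,0,1,0,0,0], 3),
    ((-1), ![0,0,0,0,1,0,0,0,1], 3),
    ((-1), ![0,1,0,1,0,0,0,0,0], 3),
    (1, ![1,0,0,0,1,0,0,0,0], 3)]),
  ((1, 4), [(1, ![0,0,1,0,1,1,0,0,0], 0),
    (1, ![0,0,0,0,0,3,0,0,0], 0),
    ((-1), ![0,1,1,0,1,0,0,0,0], 0),
    ((-2), ![0,1,0,0,0,2,0,0,0], 0),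
    (1, ![0,2,0,0,0,1,0,0,0], 0),
    ((-1), ![0,0,0,0,0,2,0,0,1], 1),
    ((-1), ![0,1,1,1,0,0,0,0,0], 1),
    (1, ![0,1,0,0,0,1,0,0,1], 1),
    (2, ![1,1,0,0,0,1,0,0,0], 1),
    ((-1), ![1,2,0,0,0,0,0,0,0], 1),
    (1, ![1,1,0,0,1,0,0,0,0], 2),
    (1, ![0,1,0,0,0,1,0,0,0], 3),
    ((-1), ![0,2,0,0,0,0,0,0,0], 3),
    ((-1), ![0,0,0,0,1,0,0,0,1], 4)]),
  ((2, 3), [(1, ![0,0,0,1,0,1,0,0,0], 0),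
    ((-1), ![0,1,0,1,0,0,0,0,0], 0),
    (1, ![1,0,0,0,1,0,0,0,0], 0),
    ((-1), ![0,0,0,0,0,1,1,0,0], 1),
    (1, ![0,1,0,0,0,0,1,0,0], 1),
    (1, ![1,0,0,1,0,0,0,0,0], 1),
    ((-1), ![0,0,0,2,0,0,0,0,0], 2),
    (1, ![0,0,0,1,0,0,0,0,0], 3)]),
  ((2, 4), [(1, ![0,0,1,0,1,0,0,0,0], 0),
    (1, ![0,0,0,0,0,2,0,0,0], 0),
    ((-1), ![0,1,0,0,0,1,0,0,0], 0),
    ((-1), ![0,0,0,0,0,1,0,0,1], 1),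
    (1, ![0,1,0,0,0,0,0,0,1], 1),
    (1, ![1,1,0,0,0,0,0,0,0], 1),
    ((-1), ![0,1,0,1,0,0,0,0,0], 2),
    (1, ![0,1,0,0,0,0,0,0,0], 3)]),
  ((3, 4), [(1, ![0,0,1,1,0,0,0,0,0], 0),
    ((-1), ![1,0,0,0,0,1,0,0,0], 0),
    (1, ![2,0,0,0,0,0,0,0,0], 1),
    ((-1), ![1,0,0,1,0,0,0,0,0], 2),
    (1, ![1,0,0,0,0,0,0,0,0], 3)])]

lemma tailLT : TailLT w lead tail := by unfold TailLT; decide +kernel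

lemma hasCerts : HasCerts w lead tail := by
  have h : ∀ i j : Fin 5, i < j → (cert.any fun p => decide (p.1 = (i, j)) &&
      decide (CertOK w lead tail i j p.2)) = true := by decide +kernel
  intro i j hij
  obtain ⟨p, -, hp⟩ := List.any_eq_true.1 (h i j hij)
  rw [Bool.and_eq_true, decide_eq_true_iff, decide_eq_true_iff] at hp
  exact ⟨p.2, hp.2⟩

lemma lead_zero (k : Fin 5) : lead k 1 = 0 := by revert k; decide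

end Groth.Agent.Lie3Mod.Data
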