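import Groth.Agent.Lie3Mod.Structure
import Mathlib.RingTheory.Regular.RegularSequence

/-!
# The linear and Jacobi sequences are regular
-/

noncomputable section

namespace Groth.Agent.Lie3Mod

open MvPolynomial Groth.Agent.Lie3Mod.WBasis _root_.Lie3Mod RingTheory.Sequence

universe u

variable (A : Type u) [CommRing A]

lemma isRegular_triple {r₁ r₂ r₃ : D A} (h₁ : ∀ x, x * r₁ = 0 → x = 0)
    (h₂ : ∀ x, x * r₂ ∈ Ideal.span {r₁} → x ∈ Ideal.span {r₁})
    (h₃ : ∀ x, x * r₃ ∈ Ideal.span {r₁, r₂} → x ∈ Ideal.span {r₁, r₂})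
    (htop : Ideal.span {r₁, r₂, r₃} ≠ ⊤) : RingTheory.Sequence.IsRegular (D A) [r₁, r₂, r₃] := by
  have key : ∀ (I : Ideal (D A)) (r : D A), (∀ x, x * r ∈ I → x ∈ I) →
      IsSMulRegular (D A ⧸ (I • ⊤ : Submodule (D A) (D A))) r := by
    intro I r h a b hab
    obtain ⟨a, rfl⟩ := Submodule.Quotient.mk_surjective _ a
    obtain ⟨b, rfl⟩ := Submodule.Quotient.mk_surjective _ b
    simp only [← Submodule.Quotient.mk_smul, Submodule.Quotient.eq, Ideal.smul_eq_mul,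
      Ideal.mul_top, smul_eq_mul] at hab ⊢
    exact h _ (by rwa [sub_mul, mul_comm a, mul_comm b])
  refine ⟨(isWeaklyRegular_iff_Fin _ _).2 fun i => key _ _ ?_, ?_⟩
  · have e₂ : Ideal.ofList [r₁] = Ideal.span {r₁} := by simp
    have e₃ : Ideal.ofList [r₁, r₂] = Ideal.span {r₁, r₂} := by
      simp [Ideal.span_insert]
    fin_cases i
    · simpa using h₁
    · simpa [e₂] using h₂
    · simpa [e₃] using h₃
  · rw [Ideal.smul_eq_mul, Ideal.mul_top]
    have e : Ideal.ofList [r₁, r₂, r₃] = Ideal.span {r₁, r₂, r₃} := by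
      simp [Ideal.span_insert, sup_assoc]
    rw [e]
    exact htop.symm

lemma span_ne_top [Nontrivial A] {s : Set (D A)} (h : ∀ x ∈ s, constantCoeff x = 0) :
    Ideal.span s ≠ ⊤ := fun e => by
  have : Ideal.span s ≤ RingHom.ker (constantCoeff (R := A) (σ := Fin 9)) :=
    Ideal.span_le.2 fun x hx => RingHom.mem_ker.2 (h x hx)
  have h1 := RingHom.mem_ker.1 (this (e ▸ Submodule.mem_top : (1 : D A) ∈ Ideal.span s))
  simp at h1

/-- A regular sequence from three polynomials with pairwise coprime leading monomials. -/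
lemma isRegular_of_coprime [Nontrivial A] (w : Fin 9 → ℕ) (a : Fin 3 → Fin 9 → ℕ)
    (T : Fin 3 → List (ℤ × (Fin 9 → ℕ))) (hT : TailLT w a T)
    (ha : ∀ i j, i ≠ j → ∀ v, a i v = 0 ∨ a j v = 0)
    (hc : HasCerts w ![a 0, a 1] ![T 0, T 1])
    {r : Fin 3 → D A} {e : Fin 3 → (D A)ˣ} (hr : ∀ i, gen A a T i = r i * e i)
    (hcc : ∀ i, constantCoeff (r i) = 0) :
    RingTheory.Sequence.IsRegular (D A) [r 0, r 1, r 2] := by
  have hgen : ∀ i, mono A (a i) + evalTerms A (T i) = r i * e i := fun i => by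
    rw [← hr, gen_eq]
  refine isRegular_triple A (fun x hx => ?_) (fun x hx => ?_) (fun x hx => ?_) (span_ne_top A ?_)
  · have h0 : WBasis.ideal A (![] : Fin 0 → Fin 9 → ℕ) ![] = ⊥ := by simp [WBasis.ideal]
    have := mem_of_mul_mem (w := w) (lead := (![] : Fin 0 → Fin 9 → ℕ)) (tail := ![]) A
      (fun k => k.elim0) (fun k => k.elim0) (a := a 0) (T := T 0) (hT 0) (fun k => k.elim0)
      (x := x) (by rw [h0, Ideal.mem_bot, hgen, ← mul_assoc, hx, zero_mul])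
    rwa [h0, Ideal.mem_bot] at this
  · have h0 : WBasis.ideal A ![a 0] ![T 0] = Ideal.span {r 0} := by
      rw [WBasis.ideal, ← Ideal.span_singleton_mul_right_unit (e 0).isUnit (r 0), ← hr 0]
      congr 1
      ext z
      simp [gen, genTerms, Fin.exists_fin_one, eq_comm]
    rw [← h0] at hx ⊢
    refine mem_of_mul_mem (w := w) A (fun k => ?_) (fun i j hij => ?_) (a := a 1) (T := T 1) (hT 1)
      (fun k v => ?_) ?_
    · fin_cases k; exact hT 0
    · exact absurd hij (by rw [Subsingleton.elim i j]; exact lt_irrefl _)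
    · fin_cases k; exact ha 0 1 (by decide) v
    · rw [hgen, ← mul_assoc]; exact Ideal.mul_mem_right _ _ hx
  · have h0 : WBasis.ideal A ![a 0, a 1] ![T 0, T 1] = Ideal.span {r 0, r 1} := by
      rw [WBasis.ideal, Ideal.span_insert, ← Ideal.span_singleton_mul_right_unit (e 0).isUnit (r 0),
        ← Ideal.span_singleton_mul_right_unit (e 1).isUnit (r 1), ← hr 0, ← hr 1,
        ← Ideal.span_insert]
      congr 1
      ext z
      simp [gen, genTerms, Fin.exists_fin_two, eq_comm]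
    rw [← h0] at hx ⊢
    refine mem_of_mul_mem (w := w) A (fun k => ?_) hc (a := a 2) (T := T 2) (hT 2)
      (fun k v => ?_) ?_
    · fin_cases k
      · exact hT 0
      · exact hT 1
    · fin_cases k
      · exact ha 0 2 (by decide) v
      · exact ha 1 2 (by decide) v
    · rw [hgen, ← mul_assoc]; exact Ideal.mul_mem_right _ _ hx
  · simp [hcc]

lemma linear_isRegular [Nontrivial A] :
    RingTheory.Sequence.IsRegular (D A) [L1 A, L2 A, L3 A] := by
  let a : Fin 3 → Fin 9 → ℕ :=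
    ![![1, 0, 0, 0, 0, 0, 0, 0, 0], ![0, 1, 0, 0, 0, 0, 0, 0, 0], ![0, 0, 0, 1, 0, 0, 0, 0, 0]]
  let T : Fin 3 → List (ℤ × (Fin 9 → ℕ)) :=
    ![[(-1, ![0, 0, 0, 0, 0, 0, 0, 0, 1])], [(1, ![0, 0, 0, 0, 0, 1, 0, 0, 0])],
      [(1, ![0, 0, 0, 0, 0, 0, 0, 1, 0])]]
  refine isRegular_of_coprime A ![1, 1, 0, 1, 0, 0, 0, 0, 0] a T
    (by unfold TailLT; decide) (by decide) ?_ (r := ![L1 A, L2 A, L3 A]) (e := 1) ?_ ?_
  · intro i j hij
    obtain ⟨rfl, rfl⟩ : i = 0 ∧ j = 1 := by revert hij; revert i j; decide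
    exact ⟨(T 1).map (fun t => (-t.1, t.2, 0)) ++ (T 0).map (fun t => (t.1, t.2, 1)),
      by decide +kernel⟩
  · intro i
    fin_cases i <;> simp [a, T, gen, genTerms, evalTerms, mono_nine, L1, L2, L3] <;> ring
  · intro i
    fin_cases i <;> simp [L1, L2, L3]

lemma jacobi_isRegular [Nontrivial A] :
    RingTheory.Sequence.IsRegular (D A) [Q1 A, Q2 A, Q3 A] := by
  let a : Fin 3 → Fin 9 → ℕ :=
    ![![0, 1, 0, 0, 0, 0, 1, 0, 0], ![1, 0, 0, 0, 1, 0, 0, 0, 0], ![0, 0, 1, 1, 0, 0, 0, 0, 0]]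
  let T : Fin 3 → List (ℤ × (Fin 9 → ℕ)) :=
    ![[(-1, ![1, 0, 0, 0, 0, 0, 0, 1, 0]), (-1, ![0, 0, 0, 1, 0, 0, 0, 0, 1]),
        (1, ![0, 0, 0, 0, 0, 1, 1, 0, 0])],
      [(-1, ![0, 0, 0, 0, 1, 0, 0, 0, 1]), (-1, ![0, 1, 0, 1, 0, 0, 0, 0, 0]),
        (1, ![0, 0, 0, 0, 0, 1, 0, 1, 0])],
      [(1, ![0, 0, 1, 0, 0, 0, 0, 1, 0]), (-1, ![1, 0, 0, 0, 0, 1, 0, 0, 0]),
        (-1, ![0, 1, 0, 0, 0, 0, 0, 0, 1])]]
  refine isRegular_of_coprime A ![6, 5, 5, 5, 6, 0, 5, 0, 0] a T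
    (by unfold TailLT; decide) (by decide) ?_ (r := ![Q1 A, Q2 A, Q3 A])
    (e := ![-1, -1, 1]) ?_ ?_
  · intro i j hij
    obtain ⟨rfl, rfl⟩ : i = 0 ∧ j = 1 := by revert hij; revert i j; decide
    exact ⟨(T 1).map (fun t => (-t.1, t.2, 0)) ++ (T 0).map (fun t => (t.1, t.2, 1)),
      by decide +kernel⟩
  · intro i
    fin_cases i <;> simp [a, T, gen, genTerms, evalTerms, mono_nine, Q1, Q2, Q3] <;> ring
  · intro i
    fin_cases i <;> simp [Q1, Q2, Q3]

end Groth.Agent.Lie3Mod
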