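import Groth.Agent.Lie3Mod.Structure
import Groth.Agent.VarDim.Algebra
import Mathlib.RingTheory.RegularLocalRing.Polynomial
import Mathlib.RingTheory.KrullDimension.Field
import Mathlib.RingTheory.Localization.AtPrime.Basic

/-!
# A smooth point of `Spec D/J`
-/

noncomputable section

namespace Groth.Agent.Lie3Mod

open MvPolynomial _root_.Lie3Mod

universe u

variable (k : Type u) [Field k] (t : k)

/-- The point. -/
def pt : Fin 9 → k := ![0, 1, 0, 0, 0, t, 0, 0, 0]

/-- The point of the parameter space. -/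
def ptT : Fin 6 → k := ![0, 0, 1, 0, 0, t]

lemma aeval_φ (x : D k) : MvPolynomial.eval (ptT k t) (φ k x) = MvPolynomial.eval (pt k t) x := by
  refine RingHom.congr_fun (f := (MvPolynomial.eval (ptT k t)).comp (φ k).toRingHom)
    (g := MvPolynomial.eval (pt k t)) ?_ x
  refine MvPolynomial.ringHom_ext (fun c => by simp [φ]) fun i => ?_
  fin_cases i <;> simp [φ, pt, ptT]

lemma span_eq_ker :
    Ideal.span ({X 0, X 1 - 1, X 2, X 3, X 4, X 5 - C t, X 6, X 7, X 8} : Set (D k)) =
      RingHom.ker (MvPolynomial.eval (pt k t)) := by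
  set S := Ideal.span ({X 0, X 1 - 1, X 2, X 3, X 4, X 5 - C t, X 6, X 7, X 8} : Set (D k))
  refine le_antisymm (Ideal.span_le.2 ?_) fun x hx => ?_
  · intro x hx
    simp only [Set.mem_insert_iff, Set.mem_singleton_iff] at hx
    rcases hx with rfl | rfl | rfl | rfl | rfl | rfl | rfl | rfl | rfl <;> simp [pt]
  · have h : (Ideal.Quotient.mk S).comp (RingHom.id _) =
        ((Ideal.Quotient.mk S).comp C).comp (MvPolynomial.eval (pt k t)) := by
      refine MvPolynomial.ringHom_ext (fun c => by simp) fun i => ?_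
      have hm : ∀ y ∈ ({X 0, X 1 - 1, X 2, X 3, X 4, X 5 - C t, X 6, X 7, X 8} : Set (D k)),
          Ideal.Quotient.mk S y = 0 := fun y hy =>
        Ideal.Quotient.eq_zero_iff_mem.2 (Ideal.subset_span hy)
      have h1 := hm (X 1 - 1) (by simp)
      have h5 := hm (X 5 - C t) (by simp)
      rw [map_sub, sub_eq_zero] at h1 h5
      fin_cases i <;> simp [pt] <;> first | (exact hm _ (by simp)) | (simpa using h1) | exact h5
    rw [← Ideal.Quotient.eq_zero_iff_mem]
    exact (RingHom.congr_fun h x).trans (by simp [RingHom.mem_ker.1 hx])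

lemma regular_point (P : Ideal (D k ⧸ idJ k)) [P.IsPrime]
    (hP : P = Ideal.map (Ideal.Quotient.mk (idJ k))
      (Ideal.span ({X 0, X 1 - 1, X 2, X 3, X 4, X 5 - C t, X 6, X 7, X 8} : Set (D k)))) :
    IsRegularLocalRing (Localization.AtPrime P) ∧ ringKrullDim (Localization.AtPrime P) = 6 := by
  let T := MvPolynomial (Fin 6) k
  let φ' : D k ⧸ idJ k →+* T := Ideal.Quotient.lift (idJ k) (φ k).toRingHom (idJ_le_ker k)
  have hinj : Function.Injective φ' := by
    refine (injective_iff_map_eq_zero φ').2 fun r hr => ?_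
    obtain ⟨x, rfl⟩ := Ideal.Quotient.mk_surjective r
    exact Ideal.Quotient.eq_zero_iff_mem.2 ((idJ_eq_ker k).symm ▸ RingHom.mem_ker.2 hr)
  letI : Algebra (D k ⧸ idJ k) T := φ'.toAlgebra
  set Q : Ideal T := RingHom.ker (MvPolynomial.eval (ptT k t))
  haveI hQ : Q.IsMaximal :=
    RingHom.ker_isMaximal_of_surjective _ (fun c => ⟨C c, eval_C c⟩)
  have hmem : ∀ x : D k, Ideal.Quotient.mk (idJ k) x ∈ P ↔ MvPolynomial.eval (pt k t) x = 0 := by
    intro x
    rw [hP, Ideal.mem_map_iff_of_surjective _ Ideal.Quotient.mk_surjective, span_eq_ker]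
    refine ⟨fun ⟨y, hy, hxy⟩ => ?_, fun h => ⟨x, h, rfl⟩⟩
    have := Ideal.Quotient.eq.1 hxy
    rw [idJ_eq_ker, RingHom.mem_ker, map_sub, sub_eq_zero] at this
    rw [← aeval_φ, ← this, aeval_φ]
    exact RingHom.mem_ker.1 hy
  have hcomap : ∀ r, r ∈ P ↔ φ' r ∈ Q := by
    intro r
    obtain ⟨x, rfl⟩ := Ideal.Quotient.mk_surjective r
    rw [hmem, RingHom.mem_ker, ← aeval_φ]
    rfl
  -- every element of `T` becomes an element of the image after multiplication by a power of `w`
  let w : D k := vb * vb + vc * ve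
  have hsurj : ∀ y : T, ∃ (n : ℕ) (x : D k), φ k x = φ k w ^ n * y := by
    intro y
    induction y using MvPolynomial.induction_on with
    | C c => exact ⟨0, C c, by simp [φ]⟩
    | add p q hp hq =>
      obtain ⟨n, x, hx⟩ := hp
      obtain ⟨m, z, hz⟩ := hq
      refine ⟨n + m, w ^ m * x + w ^ n * z, ?_⟩
      rw [map_add, map_mul, map_mul, map_pow, map_pow, hx, hz]
      ring
    | mul_X p i hp =>
      obtain ⟨n, x, hx⟩ := hp
      obtain ⟨z, hz⟩ : ∃ z : D k, φ k z = φ k w * X i := by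
        refine ⟨![vc * vh - va * vb, -(va * ve + vb * vh), w * vb, w * vc, w * ve, w * vf] i, ?_⟩
        fin_cases i <;> simp [φ, w] <;> ring
      exact ⟨n + 1, x * z, by rw [map_mul, hx, hz]; ring⟩
  have hw : φ k w ∉ Q := by
    rw [RingHom.mem_ker, aeval_φ]
    simp [w, pt]
  haveI : IsLocalization P.primeCompl (Localization.AtPrime Q) := by
    refine ⟨⟨fun r => ?_, fun z => ?_, fun {a b} h => ?_⟩⟩
    · rw [IsScalarTower.algebraMap_apply (D k ⧸ idJ k) T (Localization.AtPrime Q)]
      exact IsLocalization.map_units (Localization.AtPrime Q)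
        (⟨φ' r, fun h => r.2 ((hcomap _).2 h)⟩ : Q.primeCompl)
    · obtain ⟨⟨y, v⟩, hyv⟩ := IsLocalization.surj Q.primeCompl z
      obtain ⟨n, a, ha⟩ := hsurj y
      obtain ⟨m, b, hb⟩ := hsurj v
      refine ⟨⟨Ideal.Quotient.mk _ (w ^ m * a), ⟨Ideal.Quotient.mk _ (w ^ n * b), fun h => ?_⟩⟩, ?_⟩
      · have h' := (hcomap _).1 h
        change φ k (w ^ n * b) ∈ Q at h'
        rw [map_mul, map_pow, hb, ← mul_assoc, ← pow_add] at h'
        exact (hQ.isPrime.mem_or_mem h').elim (fun h => hw (hQ.isPrime.mem_of_pow_mem _ h)) v.2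
      · change z * algebraMap T _ (φ k (w ^ n * b)) = algebraMap T _ (φ k (w ^ m * a))
        rw [map_mul (φ k), map_mul (φ k), map_pow (φ k), map_pow (φ k), ha, hb]
        simp only [map_mul, map_pow]
        linear_combination (algebraMap T (Localization.AtPrime Q) (φ k w)) ^ n *
          (algebraMap T (Localization.AtPrime Q) (φ k w)) ^ m * hyv
    · refine ⟨1, ?_⟩
      have h' : algebraMap T (Localization.AtPrime Q) (φ' a) = algebraMap T _ (φ' b) := h
      rw [hinj (IsLocalization.injective (Localization.AtPrime Q)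
        Q.primeCompl_le_nonZeroDivisors h')]
  let e : Localization.AtPrime P ≃+* Localization.AtPrime Q :=
    (IsLocalization.algEquiv P.primeCompl _ _).toRingEquiv
  refine ⟨IsRegularLocalRing.of_ringEquiv e.symm, ?_⟩
  rw [ringKrullDim_eq_of_ringEquiv e, IsLocalization.AtPrime.ringKrullDim_eq_height Q,
    _root_.Groth.Agent.VarDim.height_eq_of_isMaximal_mvPolynomial (k := k) 6 Q hQ]
  rfl

end Groth.Agent.Lie3Mod
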