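import Groth.Agent.Lie3Mod.Data
import Groth.Prelude.Def_W4c1bouilletffgsL3
import Mathlib.RingTheory.Localization.Away.Basic
import Mathlib.RingTheory.Ideal.Colon
import Mathlib.RingTheory.Flat.Basic
import Mathlib.RingTheory.Ideal.MinimalPrime.Basic
import Mathlib.RingTheory.Nilpotent.Lemmas
import Mathlib.LinearAlgebra.FreeModule.PID
import Mathlib.RingTheory.Flat.TorsionFree

/-!
# Structure of the Jacobi scheme of three dimensional Lie algebras
-/

noncomputable section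

namespace Groth.Agent.Lie3Mod

open MvPolynomial Groth.Agent.Lie3Mod.WBasis _root_.Lie3Mod

universe u

variable (A : Type u) [CommRing A]

/-- The change of coordinates `b ↦ b - f`. -/
def θ : D A ≃ₐ[A] D A :=
  AlgEquiv.ofAlgHom (aeval ![X 0, X 1 - X 5, X 2, X 3, X 4, X 5, X 6, X 7, X 8])
    (aeval ![X 0, X 1 + X 5, X 2, X 3, X 4, X 5, X 6, X 7, X 8])
    (by ext i; fin_cases i <;> simp) (by ext i; fin_cases i <;> simp)

lemma θ_X (i : Fin 9) : θ A (X i) = ![X 0, X 1 - X 5, X 2, X 3, X 4, X 5, X 6, X 7, X 8] i := by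
  simp [θ]

lemma mono_nine (e : Fin 9 → ℕ) : mono A e =
    X 0 ^ e 0 * X 1 ^ e 1 * X 2 ^ e 2 * X 3 ^ e 3 * X 4 ^ e 4 * X 5 ^ e 5 * X 6 ^ e 6 *
      X 7 ^ e 7 * X 8 ^ e 8 := by
  have h : mono A e = ∏ i, X i ^ e i := by
    rw [mono, monomial_eq, map_one, one_mul, Finsupp.prod_fintype _ _ (fun i => pow_zero _)]
    rfl
  rw [h, Fin.prod_univ_castSucc, Fin.prod_univ_eight]
  rfl

/-- A basis element. -/
abbrev g (k : Fin 5) : D A := gen A Data.lead Data.tail k

lemma g_zero : g A 0 = θ A (Q1 A) := by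
  simp [g, gen, genTerms, evalTerms, Data.lead, Data.tail, mono_nine, Q1, θ_X]
  ring

lemma g_one : g A 1 = -θ A (Q2 A) := by
  simp [g, gen, genTerms, evalTerms, Data.lead, Data.tail, mono_nine, Q2, θ_X]
  ring

lemma g_two : g A 2 = θ A (Q3 A) := by
  simp [g, gen, genTerms, evalTerms, Data.lead, Data.tail, mono_nine, Q3, θ_X]
  ring

lemma g_three : g A 3 =
    (X 0 + X 8) * θ A (Q2 A) + (X 3 - X 7) * θ A (Q3 A) - θ A (detM A) := by
  simp [g, gen, genTerms, evalTerms, Data.lead, Data.tail, mono_nine, Q2, Q3, detM, θ_X]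
  ring

lemma g_four : g A 4 = X 2 * θ A (Q2 A) + X 5 * θ A (Q3 A) := by
  simp [g, gen, genTerms, evalTerms, Data.lead, Data.tail, mono_nine, Q2, Q3, θ_X]
  ring

lemma map_idJ : (idJ A).map (θ A : D A →+* D A) = WBasis.ideal A Data.lead Data.tail := by
  have hg : ∀ k, g A k ∈ WBasis.ideal A Data.lead Data.tail := fun k =>
    Ideal.subset_span ⟨k, rfl⟩
  have h2 : θ A (Q2 A) ∈ WBasis.ideal A Data.lead Data.tail := by
    simpa [g_one] using hg 1
  have h3 : θ A (Q3 A) ∈ WBasis.ideal A Data.lead Data.tail := g_two A ▸ hg 2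
  rw [idJ, Ideal.map_span]
  refine le_antisymm (Ideal.span_le.2 ?_) (Ideal.span_le.2 ?_)
  · rintro _ ⟨x, hx, rfl⟩
    simp only [Set.mem_insert_iff, Set.mem_singleton_iff] at hx
    rcases hx with rfl | rfl | rfl | rfl
    · exact g_zero A ▸ hg 0
    · exact h2
    · exact h3
    · have := Ideal.sub_mem _ (Ideal.add_mem _ (Ideal.mul_mem_left _ (X 0 + X 8) h2)
        (Ideal.mul_mem_left _ (X 3 - X 7) h3)) (g_three A ▸ hg 3)
      simpa using this
  · have hs : ∀ x ∈ ({Q1 A, Q2 A, Q3 A, detM A} : Set (D A)),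
        θ A x ∈ Ideal.span (⇑(θ A : D A →+* D A) '' {Q1 A, Q2 A, Q3 A, detM A}) :=
      fun x hx => Ideal.subset_span ⟨x, hx, rfl⟩
    rintro _ ⟨k, rfl⟩
    fin_cases k
    · change g A 0 ∈ _
      rw [g_zero]; exact hs _ (by simp)
    · change g A 1 ∈ _
      rw [g_one]; exact neg_mem (hs _ (by simp))
    · change g A 2 ∈ _
      rw [g_two]; exact hs _ (by simp)
    · change g A 3 ∈ _
      rw [g_three]
      exact sub_mem (add_mem (Ideal.mul_mem_left _ _ (hs _ (by simp)))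
        (Ideal.mul_mem_left _ _ (hs _ (by simp)))) (hs _ (by simp))
    · change g A 4 ∈ _
      rw [g_four]
      exact add_mem (Ideal.mul_mem_left _ _ (hs _ (by simp)))
        (Ideal.mul_mem_left _ _ (hs _ (by simp)))

lemma mem_idJ_iff (x : D A) : x ∈ idJ A ↔ θ A x ∈ WBasis.ideal A Data.lead Data.tail := by
  rw [← map_idJ]
  exact ⟨Ideal.mem_map_of_mem _, fun h => by
    obtain ⟨y, hy, hxy⟩ := (Ideal.mem_map_iff_of_surjective (θ A : D A →+* D A)
      (θ A).surjective).1 h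
    exact (θ A).injective hxy ▸ hy⟩

lemma mem_idJ_of_mul_L2_mem {x : D A} (h : x * L2 A ∈ idJ A) : x ∈ idJ A := by
  rw [mem_idJ_iff] at h ⊢
  have hL2 : θ A (L2 A) = X 1 := by simp [L2, θ_X]
  rw [map_mul, hL2] at h
  exact mem_of_mul_X_mem A Data.tailLT Data.hasCerts Data.lead_zero h

lemma quotient_idJ_projective : Module.Projective A (D A ⧸ idJ A) :=
  haveI := quotient_projective A Data.tailLT Data.hasCerts
  Module.Projective.of_equiv
    (Ideal.quotientEquivAlg (idJ A) (WBasis.ideal A Data.lead Data.tail) (θ A)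
      (map_idJ A).symm).symm.toLinearEquiv

/-- The parametrisation of the non-unimodular component, in the variables `s t b c e f`. -/
def φ : D A →ₐ[A] MvPolynomial (Fin 6) A :=
  aeval ![-(X 0 * X 2) - X 1 * X 3, X 2, X 3, -(X 0 * X 4) - X 1 * X 5, X 4, X 5,
    -(X 0 * X 0 * X 4) - X 0 * X 1 * X 5 + X 0 * X 1 * X 2 + X 1 * X 1 * X 3,
    X 0 * X 4 - X 1 * X 2, X 0 * X 5 - X 1 * X 3]

lemma idJ_le_ker : idJ A ≤ RingHom.ker (φ A) := by
  rw [idJ, Ideal.span_le]
  intro x hx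
  simp only [Set.mem_insert_iff, Set.mem_singleton_iff] at hx
  rcases hx with rfl | rfl | rfl | rfl <;>
  · simp [φ, Q1, Q2, Q3, detM]
    ring

lemma idJ_eq_ker : idJ A = RingHom.ker (φ A) := by
  refine le_antisymm (idJ_le_ker A) fun x hx => ?_
  set p : D A ⧸ idJ A := Ideal.Quotient.mk _ (L2 A) with hp
  set L := Localization.Away p
  set j : D A →ₐ[A] L :=
    (IsScalarTower.toAlgHom A (D A ⧸ idJ A) L).comp (Ideal.Quotient.mkₐ A (idJ A))
  have hinj : ∀ y, j y = 0 → y ∈ idJ A := by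
    intro y hy
    obtain ⟨⟨_, n, rfl⟩, hn⟩ := (IsLocalization.map_eq_zero_iff (Submonoid.powers p) L _).1 hy
    have hn' : L2 A ^ n * y ∈ idJ A := by
      rw [← Ideal.Quotient.eq_zero_iff_mem, map_mul, map_pow]; exact hn
    clear hn
    induction n with
    | zero => simpa using hn'
    | succ n ih => exact ih (mem_idJ_of_mul_L2_mem A (by rwa [pow_succ, mul_right_comm] at hn'))
  obtain ⟨r, hr⟩ := (IsLocalization.Away.algebraMap_isUnit (S := L) p).exists_right_inv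
  replace hr : j (L2 A) * r = 1 := hr
  let ξ : MvPolynomial (Fin 6) A →ₐ[A] L :=
    aeval ![-(j (L1 A)) * r, -(j (L3 A)) * r, j vb, j vc, j ve, j vf]
  have hQ : ∀ y ∈ idJ A, j y = 0 := fun y hy => by
    simp [j, Ideal.Quotient.eq_zero_iff_mem.2 hy]
  have h1 : j (Q1 A) = 0 := hQ _ (Ideal.subset_span (by simp))
  have h2 : j (Q2 A) = 0 := hQ _ (Ideal.subset_span (by simp))
  have h3 : j (Q3 A) = 0 := hQ _ (Ideal.subset_span (by simp))
  simp only [Q1, Q2, Q3, map_add, map_sub, map_mul] at h1 h2 h3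
  simp only [L2, map_add] at hr
  have hcomp : ξ.comp (φ A) = j := by
    refine MvPolynomial.algHom_ext fun i => ?_
    fin_cases i <;> simp [φ, ξ, L1, L3]
    · linear_combination r * h3 + (j (X 0)) * hr
    · linear_combination -r * h2 + (j (X 3)) * hr
    · linear_combination (-(j (X 0) - j (X 8)) * r) * (-r * h2 + (j (X 3)) * hr) +
        ((j (X 3) + j (X 7)) * r) * (r * h3 + (j (X 0)) * hr) + r * h1 + (j (X 6)) * hr
    · linear_combination r * h2 + (j (X 7)) * hr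
    · linear_combination r * h3 + (j (X 8)) * hr
  refine hinj x ?_
  rw [← hcomp, AlgHom.comp_apply, RingHom.mem_ker.1 hx, map_zero]

lemma idJ_isPrime [IsDomain A] : (idJ A).IsPrime := by
  rw [idJ_eq_ker]
  exact RingHom.ker_isPrime _

lemma mem_idJ_of_natCast_mul_mem {x : D ℤ} {n : ℤ} (hn : n ≠ 0) (h : C n * x ∈ idJ ℤ) :
    x ∈ idJ ℤ := by
  rw [idJ_eq_ker, RingHom.mem_ker, map_mul] at h
  rw [idJ_eq_ker, RingHom.mem_ker]
  refine (mul_eq_zero.1 h).resolve_left ?_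
  simp [φ, hn]

/-- The retraction onto the unimodular component. -/
def ρ : D A →ₐ[A] D A :=
  aeval ![X 8, -X 5, X 2, -X 7, X 4, X 5, X 6, X 7, X 8]

lemma idL_eq_ker : idL A = RingHom.ker (ρ A) := by
  have hL : ∀ y ∈ ({L1 A, L2 A, L3 A} : Set (D A)), Ideal.Quotient.mk (idL A) y = 0 :=
    fun y hy => Ideal.Quotient.eq_zero_iff_mem.2 (Ideal.subset_span hy)
  refine le_antisymm ?_ fun x hx => ?_
  · rw [idL, Ideal.span_le]
    intro x hx
    simp only [Set.mem_insert_iff, Set.mem_singleton_iff] at hx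
    rcases hx with rfl | rfl | rfl <;> simp [ρ, L1, L2, L3]
  · have hcomp : (Ideal.Quotient.mkₐ A (idL A)).comp (ρ A) = Ideal.Quotient.mkₐ A (idL A) := by
      refine MvPolynomial.algHom_ext fun i => ?_
      have h1 := hL (L1 A) (by simp)
      have h2 := hL (L2 A) (by simp)
      have h3 := hL (L3 A) (by simp)
      simp only [L1, L2, L3, map_add, map_sub] at h1 h2 h3
      fin_cases i <;> simp [ρ]
      · linear_combination -h1
      · linear_combination -h2
      · linear_combination -h3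
    rw [← Ideal.Quotient.eq_zero_iff_mem, ← Ideal.Quotient.mkₐ_eq_mk A, ← hcomp,
      AlgHom.comp_apply, RingHom.mem_ker.1 hx, map_zero]

lemma idL_isPrime [IsDomain A] : (idL A).IsPrime := by
  rw [idL_eq_ker]
  exact RingHom.ker_isPrime _

lemma mem_idL_of_mul_detM_mem {x : D A} (h : x * detM A ∈ idL A) : x ∈ idL A := by
  rw [idL_eq_ker, RingHom.mem_ker, map_mul] at h
  rw [idL_eq_ker, RingHom.mem_ker]
  let lead : Fin 0 → Fin 9 → ℕ := ![]
  let tail : Fin 0 → List (ℤ × (Fin 9 → ℕ)) := ![]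
  let T : List (ℤ × (Fin 9 → ℕ)) :=
    [(1, ![0, 0, 0, 0, 0, 2, 1, 0, 0]), (-1, ![0, 0, 0, 0, 1, 0, 0, 0, 2]),
      (1, ![0, 0, 1, 0, 1, 0, 1, 0, 0]), (2, ![0, 0, 0, 0, 0, 1, 0, 1, 1])]
  have hdet : mono A ![0, 0, 1, 0, 0, 0, 0, 2, 0] + evalTerms A T = -ρ A (detM A) := by
    simp [T, evalTerms, mono_nine, ρ, detM]
    ring
  have h0 : WBasis.ideal A lead tail = ⊥ := by simp [WBasis.ideal]
  have := mem_of_mul_mem (w := ![1, 1, 5, 1, 1, 1, 1, 5, 1]) (lead := lead) (tail := tail) A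
    (fun k => k.elim0) (fun k => k.elim0) (a := ![0, 0, 1, 0, 0, 0, 0, 2, 0]) (T := T)
    (by decide) (fun k => k.elim0) (x := ρ A x) (by rw [h0, Ideal.mem_bot, hdet, mul_neg, h, neg_zero])
  rwa [h0, Ideal.mem_bot] at this

lemma idI_le_idJ : idI A ≤ idJ A := Ideal.span_mono (by simp [Set.insert_subset_iff])

lemma idI_le_idL : idI A ≤ idL A := by
  rw [idI, Ideal.span_le, idL_eq_ker]
  intro x hx
  simp only [Set.mem_insert_iff, Set.mem_singleton_iff] at hx
  rcases hx with rfl | rfl | rfl <;>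
  · simp [ρ, Q1, Q2, Q3]
    try ring

lemma detM_mul_mem_idI {y : D A} (hy : y ∈ idL A) : detM A * y ∈ idI A := by
  have hq : ∀ c₁ c₂ c₃ : D A, c₁ * Q1 A + c₂ * Q2 A + c₃ * Q3 A ∈ idI A := fun c₁ c₂ c₃ =>
    add_mem (add_mem (Ideal.mul_mem_left _ _ (Ideal.subset_span (by simp)))
      (Ideal.mul_mem_left _ _ (Ideal.subset_span (by simp))))
      (Ideal.mul_mem_left _ _ (Ideal.subset_span (by simp)))
  refine (Ideal.span_le (I := Submodule.comap (LinearMap.mulLeft (D A) (detM A)) (idI A))).2 ?_ hy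
  intro x hx
  simp only [Set.mem_insert_iff, Set.mem_singleton_iff] at hx
  simp only [SetLike.mem_coe, Submodule.mem_comap, LinearMap.mulLeft_apply]
  rcases hx with rfl | rfl | rfl
  · rw [show detM A * L1 A = (-(vh * vc) + vb * vi) * Q1 A + (vg * vc - vi * vi) * Q2 A + (-(vg * vb) + vh * vi) * Q3 A by
      unfold Q1 Q2 Q3 detM L1; ring]
    exact hq _ _ _
  · rw [show detM A * L2 A = (ve * vc - vb * vf) * Q1 A + (vh * vc + vi * vf) * Q2 A + (-(vh * vb) - vi * ve) * Q3 A by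
      unfold Q1 Q2 Q3 detM L2; ring]
    exact hq _ _ _
  · rw [show detM A * L3 A = (ve * vi - vh * vf) * Q1 A + (vh * vi + vf * vg) * Q2 A + (-(vh * vh) - ve * vg) * Q3 A by
      unfold Q1 Q2 Q3 detM L3; ring]
    exact hq _ _ _

lemma mul_mem_idI {x y : D A} (hx : x ∈ idJ A) (hy : y ∈ idL A) : x * y ∈ idI A := by
  refine (Ideal.span_le (I := Submodule.comap (LinearMap.mulRight (D A) y) (idI A))).2 ?_ hx
  intro z hz
  simp only [SetLike.mem_coe, Submodule.mem_comap, LinearMap.mulRight_apply]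
  simp only [Set.mem_insert_iff, Set.mem_singleton_iff] at hz
  rcases hz with rfl | rfl | rfl | rfl
  iterate 3 exact Ideal.mul_mem_right _ _ (Ideal.subset_span (by simp))
  exact detM_mul_mem_idI A hy

lemma idI_eq_inf : idI A = idJ A ⊓ idL A := by
  refine le_antisymm (le_inf (idI_le_idJ A) (idI_le_idL A)) ?_
  rintro x ⟨hJ, hL⟩
  have hJ' : idJ A = idI A ⊔ Ideal.span {detM A} := by
    simp only [idI, idJ, ← Ideal.span_union, Set.insert_union, Set.singleton_union]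
  rw [SetLike.mem_coe, hJ', Submodule.mem_sup] at hJ
  obtain ⟨i, hi, _, hd, rfl⟩ := hJ
  obtain ⟨y, rfl⟩ := Ideal.mem_span_singleton.1 hd
  have hy : y ∈ idL A := mem_idL_of_mul_detM_mem A (by
    rw [mul_comm]
    exact (Ideal.add_mem_iff_right _ (idI_le_idL A hi)).1 hL)
  exact add_mem hi (detM_mul_mem_idI A hy)

lemma colon_idI_idJ : (idI A).colon (idJ A : Set (D A)) = idL A := by
  ext x
  rw [Submodule.mem_colon]
  refine ⟨fun h => mem_idL_of_mul_detM_mem A (idI_le_idL A (h _ (Ideal.subset_span (by simp)))),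
    fun hx y hy => ?_⟩
  rw [smul_eq_mul, mul_comm]
  exact mul_mem_idI A hy hx

lemma colon_idI_idL : (idI A).colon (idL A : Set (D A)) = idJ A := by
  ext x
  rw [Submodule.mem_colon]
  refine ⟨fun h => mem_idJ_of_mul_L2_mem A (idI_le_idJ A (h _ (Ideal.subset_span (by simp)))),
    fun hx y hy => ?_⟩
  exact mul_mem_idI A hx hy

lemma not_idL_le_idJ [Nontrivial A] : ¬ idL A ≤ idJ A := fun h => by
  have h₁ : φ A (L2 A) = 0 :=
    RingHom.mem_ker.1 (idJ_eq_ker A ▸ h (Ideal.subset_span (by simp)))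
  have h₂ := congrArg (MvPolynomial.eval (![0, 0, 1, 0, 0, 0] : Fin 6 → A)) h₁
  simp [φ, L2] at h₂

lemma detM_not_mem_idL [Nontrivial A] : detM A ∉ idL A := fun h => by
  have h1 : (1 : D A) ∈ idL A := mem_idL_of_mul_detM_mem A (by rwa [one_mul])
  rw [idL_eq_ker, RingHom.mem_ker, map_one] at h1
  exact one_ne_zero h1

lemma idJ_mem_minimalPrimes [IsDomain A] : idJ A ∈ (idI A).minimalPrimes := by
  refine ⟨⟨idJ_isPrime A, idI_le_idJ A⟩, fun P ⟨hP, hIP⟩ hPJ => ?_⟩
  obtain ⟨y, hyL, hyJ⟩ := SetLike.not_le_iff_exists.1 (not_idL_le_idJ A)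
  exact fun x hx => (hP.mem_or_mem (hIP (mul_mem_idI A hx hyL))).resolve_right fun h => hyJ (hPJ h)

lemma idL_mem_minimalPrimes [IsDomain A] : idL A ∈ (idI A).minimalPrimes := by
  refine ⟨⟨idL_isPrime A, idI_le_idL A⟩, fun P ⟨hP, hIP⟩ hPL => ?_⟩
  exact fun x hx => (hP.mem_or_mem (hIP (detM_mul_mem_idI A hx))).resolve_left
    fun h => detM_not_mem_idL A (hPL h)

lemma mem_idI_of_intCast_mul_mem {x : D ℤ} {n : ℤ} (hn : n ≠ 0) (h : C n * x ∈ idI ℤ) :
    x ∈ idI ℤ := by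
  rw [idI_eq_inf] at h ⊢
  refine ⟨mem_idJ_of_natCast_mul_mem hn h.1, ?_⟩
  exact ((idL_isPrime ℤ).mem_or_mem h.2).resolve_left fun hC => hn (by
    rw [idL_eq_ker, RingHom.mem_ker] at hC
    simpa [ρ] using hC)

lemma flat_quotient_idI_int : Module.Flat ℤ (D ℤ ⧸ idI ℤ) := by
  rw [IsDedekindDomain.flat_iff_torsion_eq_bot, Submodule.eq_bot_iff]
  intro x hx
  obtain ⟨⟨c, hc⟩, hcx⟩ := hx
  obtain ⟨x, rfl⟩ := Ideal.Quotient.mk_surjective x
  refine Ideal.Quotient.eq_zero_iff_mem.2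
    (mem_idI_of_intCast_mul_mem (nonZeroDivisors.ne_zero hc) ?_)
  rw [← Ideal.Quotient.eq_zero_iff_mem, map_mul]
  have h' : (c : ℤ) • Ideal.Quotient.mk (idI ℤ) x = 0 := hcx
  rw [zsmul_eq_mul] at h'
  simpa using h'

lemma idI_isRadical [IsDomain A] : (idI A).IsRadical := by
  rw [idI_eq_inf]
  exact (idJ_isPrime A).isRadical.inf (idL_isPrime A).isRadical

end Groth.Agent.Lie3Mod
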