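import Mathlib.Algebra.MvPolynomial.CommRing
import Mathlib.Algebra.MvPolynomial.Basic
import Mathlib.RingTheory.MvPolynomial.Basic
import Mathlib.Algebra.Module.Projective
import Mathlib.RingTheory.Ideal.Quotient.Operations
import Mathlib.Tactic.LinearCombination
import Mathlib.Tactic.Ring

/-!
# Normal forms for weighted standard bases with monic leading monomials
-/

noncomputable section

namespace Groth.Agent.Lie3Mod.WBasis

open MvPolynomial

variable {σ : Type} [Fintype σ] (R : Type*) [CommRing R]

/-- The monomial with given exponents. -/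
def mono (e : σ → ℕ) : MvPolynomial σ R := monomial (Finsupp.equivFunOnFinite.symm e) 1

lemma mono_add (e e' : σ → ℕ) : mono R (e + e') = mono R e * mono R e' := by
  rw [mono, mono, mono, monomial_mul, one_mul]
  congr 2
  ext
  simp

lemma monomial_eq_smul_mono (d : σ →₀ ℕ) (r : R) : monomial d r = r • mono R ⇑d := by
  rw [mono, smul_monomial, smul_eq_mul, mul_one]
  congr 1
  congr 1
  ext
  rfl

lemma coeff_list_sum {d : σ →₀ ℕ} {L : List (MvPolynomial σ R)} :
    coeff d L.sum = (L.map (coeff d)).sum := by
  induction L with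
  | nil => simp
  | cons a L ih => simp [ih]

lemma sub_add_cancel_fun {a b : σ → ℕ} (h : a ≤ b) : b - a + a = b :=
  funext fun i => Nat.sub_add_cancel (h i)

lemma coeff_mono [DecidableEq σ] (e : σ → ℕ) (d : σ →₀ ℕ) :
    coeff d (mono R e) = if e = ⇑d then 1 else 0 := by
  rw [mono, coeff_monomial]
  refine if_congr ⟨fun h => ?_, fun h => ?_⟩ rfl rfl
  · rw [← h]; rfl
  · subst h; ext; rfl

/-- A formal sum of monomials. -/
def evalTerms (L : List (ℤ × (σ → ℕ))) : MvPolynomial σ R :=
  (L.map fun t => (t.1 : MvPolynomial σ R) * mono R t.2).sum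

@[simp] lemma evalTerms_nil : evalTerms R ([] : List (ℤ × (σ → ℕ))) = 0 := rfl

lemma evalTerms_cons (t : ℤ × (σ → ℕ)) (L : List (ℤ × (σ → ℕ))) :
    evalTerms R (t :: L) = (t.1 : MvPolynomial σ R) * mono R t.2 + evalTerms R L := by
  simp [evalTerms]

lemma evalTerms_append (L L' : List (ℤ × (σ → ℕ))) :
    evalTerms R (L ++ L') = evalTerms R L + evalTerms R L' := by
  simp [evalTerms]

lemma coeff_evalTerms [DecidableEq σ] (L : List (ℤ × (σ → ℕ))) (d : σ →₀ ℕ) :
    coeff d (evalTerms R L) = (((L.filter fun t => t.2 = ⇑d).map Prod.fst).sum : ℤ) := by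
  induction L with
  | nil => simp
  | cons t L ih =>
    rw [evalTerms_cons, coeff_add, ih, show ((t.1 : MvPolynomial σ R)) = C (t.1 : R) from
      (map_intCast (C : R →+* MvPolynomial σ R) t.1).symm, coeff_C_mul, coeff_mono]
    by_cases h : t.2 = ⇑d <;> simp [h]

lemma evalTerms_eq_zero [DecidableEq σ] (L : List (ℤ × (σ → ℕ)))
    (h : ∀ t ∈ L, ((L.filter fun s => s.2 = t.2).map Prod.fst).sum = 0) :
    evalTerms R L = 0 := by
  refine MvPolynomial.ext _ _ fun d => ?_
  rw [coeff_evalTerms, coeff_zero]
  by_cases hd : ∃ t ∈ L, t.2 = ⇑d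
  · obtain ⟨t, ht, hd⟩ := hd
    rw [← hd, h t ht, Int.cast_zero]
  · push Not at hd
    rw [List.filter_eq_nil_iff.2 fun t ht => by simpa using hd t ht]
    simp

/-- Multiply a list of terms by a monomial. -/
def shift (m : σ → ℕ) (L : List (ℤ × (σ → ℕ))) : List (ℤ × (σ → ℕ)) :=
  L.map fun t => (t.1, m + t.2)

lemma evalTerms_shift (m : σ → ℕ) (L : List (ℤ × (σ → ℕ))) :
    evalTerms R (shift m L) = mono R m * evalTerms R L := by
  induction L with
  | nil => simp [shift]
  | cons t L ih =>
    rw [shift, List.map_cons, evalTerms_cons, evalTerms_cons, ← shift, ih, mono_add]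
    ring

/-- Multiply a list of terms by an integer. -/
def scale (c : ℤ) (L : List (ℤ × (σ → ℕ))) : List (ℤ × (σ → ℕ)) :=
  L.map fun t => (c * t.1, t.2)

lemma evalTerms_scale (c : ℤ) (L : List (ℤ × (σ → ℕ))) :
    evalTerms R (scale c L) = (c : MvPolynomial σ R) * evalTerms R L := by
  induction L with
  | nil => simp [scale]
  | cons t L ih =>
    rw [scale, List.map_cons, evalTerms_cons, evalTerms_cons, ← scale, ih]
    push_cast
    ring

variable {n : ℕ} (w : σ → ℕ) (lead : Fin n → σ → ℕ) (tail : Fin n → List (ℤ × (σ → ℕ)))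

/-- The weight of an exponent vector. -/
def wt (e : σ → ℕ) : ℕ := ∑ i, w i * e i

lemma wt_add (e e' : σ → ℕ) : wt w (e + e') = wt w e + wt w e' := by
  simp [wt, mul_add, Finset.sum_add_distrib]

/-- The terms of a basis element. -/
def genTerms (k : Fin n) : List (ℤ × (σ → ℕ)) := (1, lead k) :: tail k

/-- A basis element. -/
def gen (k : Fin n) : MvPolynomial σ R := evalTerms R (genTerms lead tail k)

lemma gen_eq (k : Fin n) : gen R lead tail k = mono R (lead k) + evalTerms R (tail k) := by
  rw [gen, genTerms, evalTerms_cons]; simp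

/-- The ideal generated by the basis. -/
def ideal : Ideal (MvPolynomial σ R) := Ideal.span (Set.range (gen R lead tail))

/-- Tails are lighter than leading monomials. -/
def TailLT : Prop := ∀ k, ∀ t ∈ tail k, wt w t.2 < wt w (lead k)

/-- A certificate for the pair `(i, j)`. -/
def CertOK [DecidableEq σ] (i j : Fin n) (L : List (ℤ × (σ → ℕ) × Fin n)) : Prop :=
  (∀ t ∈ L, wt w (t.2.1 + lead t.2.2) < wt w (lead i ⊔ lead j)) ∧
    let T := shift (lead i ⊔ lead j - lead i) (genTerms lead tail i) ++
      scale (-1) (shift (lead i ⊔ lead j - lead j) (genTerms lead tail j)) ++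
      scale (-1) (L.flatMap fun t => scale t.1 (shift t.2.1 (genTerms lead tail t.2.2)))
    ∀ t ∈ T, ((T.filter fun s => s.2 = t.2).map Prod.fst).sum = 0

instance [DecidableEq σ] (i j : Fin n) (L : List (ℤ × (σ → ℕ) × Fin n)) :
    Decidable (CertOK w lead tail i j L) := by
  unfold CertOK; infer_instance

/-- All pairs have certificates. -/
def HasCerts [DecidableEq σ] : Prop := ∀ i j, i < j → ∃ L, CertOK w lead tail i j L

/-- Standard exponents. -/
def IsStd (e : σ → ℕ) : Prop := ∀ k, ¬ lead k ≤ e

variable {w lead tail}

open Classical in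
/-- The normal form of a monomial. -/
def nfMon (ht : TailLT w lead tail) (e : σ → ℕ) : MvPolynomial σ R :=
  if h : ∃ k, lead k ≤ e then
    ((tail h.choose).attach.map fun t => -(t.1.1 : MvPolynomial σ R) *
      nfMon ht (e - lead h.choose + t.1.2)).sum
  else mono R e
termination_by wt w e
decreasing_by
  conv_rhs => rw [← sub_add_cancel_fun h.choose_spec]
  rw [wt_add, wt_add]
  exact Nat.add_lt_add_left (ht _ _ t.2) _

variable (ht : TailLT w lead tail)

lemma nfMon_std {e : σ → ℕ} (he : IsStd lead e) : nfMon R ht e = mono R e := by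
  rw [nfMon, dif_neg (by rintro ⟨k, hk⟩; exact he k hk)]

/-- The normal form. -/
def nf : MvPolynomial σ R →ₗ[R] MvPolynomial σ R :=
  (basisMonomials σ R).constr R fun d => nfMon R ht ⇑d

lemma nf_mono (e : σ → ℕ) : nf R ht (mono R e) = nfMon R ht e := by
  rw [nf, mono, ← congrFun (coe_basisMonomials σ R) _, Module.Basis.constr_basis]
  rfl

lemma nf_intCast_mul (c : ℤ) (x : MvPolynomial σ R) :
    nf R ht ((c : MvPolynomial σ R) * x) = (c : MvPolynomial σ R) * nf R ht x := by
  rw [← zsmul_eq_mul, ← zsmul_eq_mul, map_zsmul]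

lemma nf_evalTerms (L : List (ℤ × (σ → ℕ))) :
    nf R ht (evalTerms R L) =
      (L.map fun t => (t.1 : MvPolynomial σ R) * nfMon R ht t.2).sum := by
  induction L with
  | nil => simp
  | cons t L ih => rw [evalTerms_cons, map_add, ih, nf_intCast_mul, nf_mono]; simp

lemma nfMon_reducible {e : σ → ℕ} (h : ∃ k, lead k ≤ e) :
    ∃ k, lead k ≤ e ∧ nfMon R ht e = - nf R ht (mono R (e - lead k) * evalTerms R (tail k)) := by
  classical
  refine ⟨h.choose, h.choose_spec, ?_⟩
  rw [nfMon, dif_pos h, ← evalTerms_shift, nf_evalTerms, shift, List.map_map]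
  rw [List.attach_map_val (l := tail h.choose) (f := fun t => -(t.1 : MvPolynomial σ R) *
    nfMon R ht (e - lead h.choose + t.2))]
  induction tail h.choose with
  | nil => simp
  | cons t L ih =>
    simp only [List.map_cons, List.sum_cons, Function.comp_apply]
    rw [ih]
    ring

lemma nf_mono_mul_gen [DecidableEq σ] (hc : HasCerts w lead tail) (N : ℕ) :
    ∀ (m : σ → ℕ) (k : Fin n), wt w (m + lead k) < N →
      nf R ht (mono R m * gen R lead tail k) = 0 := by
  induction N with
  | zero => intro m k h; omega
  | succ N IH =>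
    intro m k hmk
    have key : ∀ (m m' : σ → ℕ) (i j : Fin n), i < j → m + lead i = m' + lead j →
        wt w (m + lead i) < N + 1 →
        nf R ht (mono R m * gen R lead tail i - mono R m' * gen R lead tail j) = 0 := by
      intro m m' i j hij he hN
      obtain ⟨L, hw, hL⟩ := hc i j hij
      have hz := evalTerms_eq_zero R _ hL
      rw [evalTerms_append, evalTerms_append, evalTerms_scale, evalTerms_scale, evalTerms_shift,
        evalTerms_shift] at hz
      set l := lead i ⊔ lead j
      have hl : l ≤ m + lead i := sup_le le_add_self (he ▸ le_add_self)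
      have h₁ : m = (m + lead i - l) + (l - lead i) := by
        funext x
        have := hl x
        have : lead i x ≤ l x := le_sup_left (a := lead i x)
        simp only [Pi.add_apply, Pi.sub_apply] at *
        omega
      have h₂ : m' = (m + lead i - l) + (l - lead j) := by
        funext x
        have := hl x
        have := congrFun he x
        have : lead j x ≤ l x := le_sup_right (b := lead j x)
        simp only [Pi.add_apply, Pi.sub_apply] at *
        omega
      set K := m + lead i - l
      have hK : ∀ t ∈ L, wt w (K + t.2.1 + lead t.2.2) < N := by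
        intro t ht'
        have h := hw t ht'
        have hKl : K + l = m + lead i := sub_add_cancel_fun hl
        rw [← hKl, wt_add] at hN
        rw [add_assoc, wt_add]
        omega
      have e₁ : mono R (l - lead i) * gen R lead tail i - mono R (l - lead j) * gen R lead tail j =
          evalTerms R (L.flatMap fun t => scale t.1 (shift t.2.1 (genTerms lead tail t.2.2))) := by
        unfold gen
        push_cast at hz
        linear_combination hz
      rw [h₁, h₂, mono_add, mono_add, mul_assoc, mul_assoc, ← mul_sub, e₁]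
      clear hz hL hw e₁
      induction L with
      | nil => simp
      | cons t L ihL =>
        rw [List.flatMap_cons, evalTerms_append, mul_add, map_add,
          ihL fun t' ht' => hK t' (List.mem_cons_of_mem _ ht'), add_zero, evalTerms_scale,
          evalTerms_shift, ← mul_assoc, mul_comm (mono R K), mul_assoc, ← mul_assoc (mono R K),
          ← mono_add, nf_intCast_mul]
        rw [show evalTerms R (genTerms lead tail t.2.2) = gen R lead tail t.2.2 from rfl,
          IH _ _ (hK t (List.mem_cons_self ..)), mul_zero]
    obtain ⟨j, hj, hjnf⟩ := nfMon_reducible R ht (e := m + lead k) ⟨k, le_add_self⟩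
    have hself : nf R ht (mono R (m + lead k - lead j) * gen R lead tail j) = 0 := by
      rw [gen_eq, mul_add, map_add, ← mono_add, sub_add_cancel_fun hj, nf_mono, hjnf,
        neg_add_cancel]
    have he : m + lead k = (m + lead k - lead j) + lead j := (sub_add_cancel_fun hj).symm
    rcases lt_trichotomy k j with h | h | h
    · have := key m _ k j h he hmk
      rwa [map_sub, hself, sub_zero] at this
    · subst h
      rwa [show m + lead k - lead k = m from funext fun i => Nat.add_sub_cancel ..] at hself
    · have := key (m + lead k - lead j) m j k h he.symm (he ▸ hmk)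
      rw [map_sub, hself, zero_sub, neg_eq_zero] at this
      exact this

lemma nf_eq_zero_of_mem [DecidableEq σ] (hc : HasCerts w lead tail) {x : MvPolynomial σ R}
    (hx : x ∈ ideal R lead tail) : nf R ht x = 0 := by
  obtain ⟨c, rfl⟩ := Ideal.mem_span_range_iff_exists_fun.1 hx
  rw [map_sum]
  refine Finset.sum_eq_zero fun k _ => ?_
  induction c k using MvPolynomial.induction_on' with
  | monomial d r =>
    rw [monomial_eq_smul_mono, smul_mul_assoc, map_smul,
      nf_mono_mul_gen R ht hc _ _ _ (Nat.lt_succ_self _), smul_zero]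
  | add p q hp hq => rw [add_mul, map_add, hp, hq, add_zero]

lemma mono_sub_nfMon_mem (N : ℕ) : ∀ e : σ → ℕ, wt w e < N →
    mono R e - nfMon R ht e ∈ ideal R lead tail ∧
      ∀ d ∈ (nfMon R ht e).support, IsStd lead ⇑d ∧ (wt w ⇑d < wt w e ∨ ⇑d = e) := by
  classical
  induction N with
  | zero => intro e h; omega
  | succ N IH =>
    intro e he
    by_cases h : ∃ k, lead k ≤ e
    · obtain ⟨k, hk, hnf⟩ := nfMon_reducible R ht h
      rw [← evalTerms_shift, nf_evalTerms, shift, List.map_map] at hnf
      have hlt : ∀ t ∈ tail k, wt w (e - lead k + t.2) < wt w e := fun t h' => by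
        conv_rhs => rw [← sub_add_cancel_fun hk]
        rw [wt_add, wt_add]
        exact Nat.add_lt_add_left (ht _ _ h') _
      constructor
      · have hdiff : mono R e - nfMon R ht e = mono R (e - lead k) * gen R lead tail k -
            ((tail k).map fun t => (t.1 : MvPolynomial σ R) *
              (mono R (e - lead k + t.2) - nfMon R ht (e - lead k + t.2))).sum := by
          rw [hnf, gen_eq, mul_add, ← mono_add, sub_add_cancel_fun hk, ← evalTerms_shift]
          unfold evalTerms shift
          rw [List.map_map]
          clear hnf hlt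
          induction tail k with
          | nil => simp
          | cons t L ih =>
            simp only [List.map_cons, List.sum_cons, Function.comp_apply, neg_add]
            linear_combination ih
        rw [hdiff]
        refine Ideal.sub_mem _ (Ideal.mul_mem_left _ _ (Ideal.subset_span ⟨k, rfl⟩))
          (list_sum_mem fun x hx => ?_)
        obtain ⟨t, ht', rfl⟩ := List.mem_map.1 hx
        have := hlt t ht'
        exact Ideal.mul_mem_left _ _ (IH _ (by omega)).1
      · intro d hd
        rw [hnf, support_neg] at hd
        have hex : ∃ t ∈ tail k, d ∈ (nfMon R ht (e - lead k + t.2)).support := by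
          clear hnf hlt
          generalize tail k = L at hd ⊢
          induction L with
          | nil => simp at hd
          | cons t L ih =>
            rw [List.map_cons, List.sum_cons] at hd
            rcases Finset.mem_union.1 (support_add hd) with hd | hd
            · refine ⟨t, List.mem_cons_self .., ?_⟩
              rw [Function.comp_apply, ← map_intCast (C : R →+* MvPolynomial σ R), ← smul_eq_C_mul] at hd
              exact support_smul hd
            · obtain ⟨t', h₁, h₂⟩ := ih hd
              exact ⟨t', List.mem_cons_of_mem _ h₁, h₂⟩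
        obtain ⟨t, ht', hdt⟩ := hex
        have := hlt t ht'
        obtain ⟨h₁, h₂⟩ := (IH _ (by omega)).2 d hdt
        refine ⟨h₁, Or.inl ?_⟩
        rcases h₂ with h₂ | h₂
        · omega
        · rw [h₂]; omega
    · have hs : IsStd lead e := fun k hk => h ⟨k, hk⟩
      rw [nfMon_std R ht hs]
      refine ⟨by simp, fun d hd => ?_⟩
      have : ⇑d = e := by
        rw [mem_support_iff, coeff_mono] at hd
        by_contra hne
        exact hd (if_neg fun h => hne h.symm)
      exact ⟨this ▸ hs, Or.inr this⟩

lemma sub_nf_mem (x : MvPolynomial σ R) : x - nf R ht x ∈ ideal R lead tail := by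
  induction x using MvPolynomial.induction_on' with
  | monomial d r =>
    rw [monomial_eq_smul_mono, map_smul, nf_mono, ← smul_sub,
      smul_eq_C_mul]
    exact Ideal.mul_mem_left _ _ (mono_sub_nfMon_mem R ht _ _ (Nat.lt_succ_self _)).1
  | add p q hp hq => rw [map_add, add_sub_add_comm]; exact Ideal.add_mem _ hp hq

lemma isStd_of_mem_support_nf {x : MvPolynomial σ R} {d : σ →₀ ℕ}
    (hd : d ∈ (nf R ht x).support) : IsStd lead ⇑d := by
  classical
  induction x using MvPolynomial.induction_on' with
  | monomial d' r =>
    rw [monomial_eq_smul_mono, map_smul, nf_mono] at hd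
    exact ((mono_sub_nfMon_mem R ht _ _ (Nat.lt_succ_self _)).2 d (support_smul hd)).1
  | add p q hp hq =>
    rw [map_add] at hd
    exact (Finset.mem_union.1 (support_add hd)).elim hp hq

lemma nf_of_std {x : MvPolynomial σ R} (hx : ∀ d ∈ x.support, IsStd lead ⇑d) :
    nf R ht x = x := by
  conv_lhs => rw [x.as_sum]
  conv_rhs => rw [x.as_sum]
  rw [map_sum]
  refine Finset.sum_congr rfl fun d hd => ?_
  rw [monomial_eq_smul_mono, map_smul, nf_mono,
    nfMon_std R ht (hx d hd)]

lemma mem_ideal_iff [DecidableEq σ] (hc : HasCerts w lead tail) {x : MvPolynomial σ R} :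
    x ∈ ideal R lead tail ↔ nf R ht x = 0 :=
  ⟨nf_eq_zero_of_mem R ht hc, fun h => by simpa [h] using sub_nf_mem R ht x⟩

include ht in
lemma quotient_projective [DecidableEq σ] (hc : HasCerts w lead tail) :
    Module.Projective R (MvPolynomial σ R ⧸ ideal R lead tail) := by
  let J := (ideal R lead tail).restrictScalars R
  let i : (MvPolynomial σ R ⧸ J) →ₗ[R] MvPolynomial σ R :=
    J.liftQ (nf R ht) fun x hx => nf_eq_zero_of_mem R ht hc hx
  haveI : Module.Free R (MvPolynomial σ R) := Module.Free.of_basis (basisMonomials σ R)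
  haveI : Module.Projective R (MvPolynomial σ R ⧸ J) :=
    Module.Projective.of_split i J.mkQ (LinearMap.ext fun q => by
      obtain ⟨x, rfl⟩ := J.mkQ_surjective q
      exact ((Submodule.Quotient.eq J).2 (sub_nf_mem R ht x)).symm)
  exact Module.Projective.of_equiv (Submodule.Quotient.restrictScalarsEquiv R (ideal R lead tail))

include ht in
lemma mem_of_mul_X_mem [DecidableEq σ] (hc : HasCerts w lead tail) {v : σ}
    (hv : ∀ k, lead k v = 0) {x : MvPolynomial σ R} (hx : x * X v ∈ ideal R lead tail) :
    x ∈ ideal R lead tail := by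
  set y := nf R ht x
  have hy : y * X v ∈ ideal R lead tail := by
    have := Ideal.sub_mem _ hx (Ideal.mul_mem_right (X v) _ (sub_nf_mem R ht x))
    rwa [← sub_mul, sub_sub_cancel] at this
  have hstd : ∀ d : σ →₀ ℕ, d ∈ (y * X v).support → IsStd lead ⇑d := by
    intro d hd
    rw [support_mul_X, Finset.mem_map] at hd
    obtain ⟨d', hd', rfl⟩ := hd
    intro k hk
    refine isStd_of_mem_support_nf R ht hd' k fun z => ?_
    have := hk z
    by_cases hz : z = v
    · subst hz; simp [hv]
    · simpa [Finsupp.single_eq_of_ne hz] using this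
  have h0 : y * X v = 0 := (nf_of_std R ht hstd).symm.trans (nf_eq_zero_of_mem R ht hc hy)
  have : y = 0 := by
    refine MvPolynomial.ext _ _ fun d => ?_
    have := congrArg (coeff (d + Finsupp.single v 1)) h0
    rwa [coeff_mul_X] at this
  exact (mem_ideal_iff R ht hc).2 this

include ht in
/-- A polynomial whose leading monomial is disjoint from those of the basis is regular modulo it. -/
lemma mem_of_mul_mem [DecidableEq σ] (hc : HasCerts w lead tail) {a : σ → ℕ}
    {T : List (ℤ × (σ → ℕ))} (hT : ∀ t ∈ T, wt w t.2 < wt w a)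
    (ha : ∀ k v, lead k v = 0 ∨ a v = 0) {x : MvPolynomial σ R}
    (hx : x * (mono R a + evalTerms R T) ∈ ideal R lead tail) : x ∈ ideal R lead tail := by
  set g := mono R a + evalTerms R T
  set y := nf R ht x
  have hy : y * g ∈ ideal R lead tail := by
    have := Ideal.sub_mem _ hx (Ideal.mul_mem_right g _ (sub_nf_mem R ht x))
    rwa [← sub_mul, sub_sub_cancel] at this
  refine (mem_ideal_iff R ht hc).2 ?_
  by_contra hy0
  obtain ⟨d₀, hd₀, hmax⟩ := Finset.exists_max_image y.support (fun d => wt w ⇑d)
    (Finset.nonempty_of_ne_empty (by simpa [MvPolynomial.support_eq_empty] using hy0))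
  set e := Finsupp.equivFunOnFinite.symm (⇑d₀ + a)
  have he : ∀ (d : σ →₀ ℕ) (b : σ → ℕ), d ∈ y.support →
      wt w (⇑d + b) < wt w ⇑e ∨ (d = d₀ ∧ b = a) ∨ (b = a) →
      coeff e (nfMon R ht (⇑d + b)) = if d = d₀ ∧ b = a then 1 else 0 := by
    intro d b hd hcase
    by_cases hb : b = a
    · subst hb
      have hs : IsStd lead (⇑d + b) := fun k hk => isStd_of_mem_support_nf R ht hd k fun v => by
        rcases ha k v with h | h
        · simp [h]
        · simpa [h] using hk v
      rw [nfMon_std R ht hs, coeff_mono]
      refine if_congr ⟨fun h => ⟨?_, rfl⟩, fun h => ?_⟩ rfl rfl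
      · ext v
        simpa [e] using congrFun h v
      · simp [e, h.1]
    · rw [if_neg fun h => hb h.2]
      have hlt : wt w (⇑d + b) < wt w ⇑e := by
        rcases hcase with h | h | h
        · exact h
        · exact absurd h.2 hb
        · exact absurd h hb
      by_contra hne
      rcases ((mono_sub_nfMon_mem R ht _ _ (Nat.lt_succ_self _)).2 e (mem_support_iff.2 hne)).2
        with h | h
      · omega
      · rw [h] at hlt; omega
  have hzero : coeff e (nf R ht (y * g)) = 0 := by rw [nf_eq_zero_of_mem R ht hc hy, coeff_zero]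
  refine (mem_support_iff.1 hd₀) ?_
  rw [y.as_sum, Finset.sum_mul, map_sum, coeff_sum] at hzero
  rw [Finset.sum_eq_single_of_mem d₀ hd₀] at hzero
  · have hgoal : coeff e (nf R ht (monomial d₀ (coeff d₀ y) * g)) = coeff d₀ y := by
      rw [monomial_eq_smul_mono, smul_mul_assoc, map_smul,
        coeff_smul, mul_add, map_add, ← mono_add, nf_mono, ← evalTerms_shift, nf_evalTerms,
        coeff_add, he d₀ a hd₀ (Or.inr (Or.inr rfl)), if_pos ⟨rfl, rfl⟩]
      have : coeff e (((shift (⇑d₀) T).map fun t =>
          (t.1 : MvPolynomial σ R) * nfMon R ht t.2).sum) = 0 := by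
        rw [coeff_list_sum]
        refine List.sum_eq_zero fun z hz => ?_
        obtain ⟨p, hp, rfl⟩ := List.mem_map.1 hz
        obtain ⟨q, hq, rfl⟩ := List.mem_map.1 hp
        obtain ⟨t, ht', rfl⟩ := List.mem_map.1 hq
        rw [← map_intCast (C : R →+* MvPolynomial σ R), coeff_C_mul, he d₀ t.2 hd₀ (Or.inl ?_),
          if_neg fun h => (hT t ht').ne (congrArg (wt w) h.2), mul_zero]
        simp only [e, Finsupp.coe_equivFunOnFinite_symm, wt_add]
        have := hT t ht'
        omega
      rw [this, add_zero, smul_eq_mul, mul_one]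
    rw [hgoal] at hzero
    exact hzero
  · intro d hd hne
    rw [monomial_eq_smul_mono, smul_mul_assoc, map_smul,
      coeff_smul, mul_add, map_add, ← mono_add, nf_mono, ← evalTerms_shift, nf_evalTerms,
      coeff_add, he d a hd (Or.inr (Or.inr rfl)), if_neg fun h => hne h.1, zero_add]
    have : coeff e (((shift (⇑d) T).map fun t =>
        (t.1 : MvPolynomial σ R) * nfMon R ht t.2).sum) = 0 := by
      rw [coeff_list_sum]
      refine List.sum_eq_zero fun z hz => ?_
      obtain ⟨p, hp, rfl⟩ := List.mem_map.1 hz
      obtain ⟨q, hq, rfl⟩ := List.mem_map.1 hp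
      obtain ⟨t, ht', rfl⟩ := List.mem_map.1 hq
      rw [← map_intCast (C : R →+* MvPolynomial σ R), coeff_C_mul, he d t.2 hd (Or.inl ?_),
        if_neg fun h => (hT t ht').ne (congrArg (wt w) h.2), mul_zero]
      simp only [e, Finsupp.coe_equivFunOnFinite_symm, wt_add]
      have := hT t ht'
      have := hmax d hd
      omega
    rw [this, smul_zero]

end Groth.Agent.Lie3Mod.WBasis
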